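/-
A fixed-point-free subgroup of `GL(4, 7)` of order 240 (a double cover of `S₅`), given by its list of elements.
-/
import Cfsg.Agent.EqLemmas
import Mathlib.LinearAlgebra.Matrix.Notation
import Mathlib.Data.ZMod.Basic
import Mathlib.Algebra.BigOperators.Fin

set_option autoImplicit false
set_option maxRecDepth 4000

namespace Cfsg.Agent.SpecTen

/-- A row with four entries. -/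
abbrev Row : Type := ℕ × ℕ × ℕ × ℕ

/-- A four by four matrix, by rows. -/
abbrev Arr : Type := Row × Row × Row × Row

/-- Row times matrix, modulo 7. -/
def rowMul (r : Row) (B : Arr) : Row :=
  ((r.1 * B.1.1 + r.2.1 * B.2.1.1 + r.2.2.1 * B.2.2.1.1 + r.2.2.2 * B.2.2.2.1) % 7,
   (r.1 * B.1.2.1 + r.2.1 * B.2.1.2.1 + r.2.2.1 * B.2.2.1.2.1 + r.2.2.2 * B.2.2.2.2.1) % 7,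
   (r.1 * B.1.2.2.1 + r.2.1 * B.2.1.2.2.1 + r.2.2.1 * B.2.2.1.2.2.1 + r.2.2.2 * B.2.2.2.2.2.1) % 7,
   (r.1 * B.1.2.2.2 + r.2.1 * B.2.1.2.2.2 + r.2.2.1 * B.2.2.1.2.2.2 + r.2.2.2 * B.2.2.2.2.2.2) % 7)

/-- Product modulo 7. -/
def arrMul (A B : Arr) : Arr := (rowMul A.1 B, rowMul A.2.1 B, rowMul A.2.2.1 B, rowMul A.2.2.2 B)

/-- Sum of rows modulo 7. -/
def rowAdd (r s : Row) : Row :=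
  ((r.1 + s.1) % 7, (r.2.1 + s.2.1) % 7, (r.2.2.1 + s.2.2.1) % 7, (r.2.2.2 + s.2.2.2) % 7)

/-- Sum modulo 7. -/
def arrAdd (A B : Arr) : Arr :=
  (rowAdd A.1 B.1, rowAdd A.2.1 B.2.1, rowAdd A.2.2.1 B.2.2.1, rowAdd A.2.2.2 B.2.2.2)

def arrOne : Arr := ((1, 0, 0, 0), (0, 1, 0, 0), (0, 0, 1, 0), (0, 0, 0, 1))
def arrNeg : Arr := ((6, 0, 0, 0), (0, 6, 0, 0), (0, 0, 6, 0), (0, 0, 0, 6))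
def arrZero : Arr := ((0, 0, 0, 0), (0, 0, 0, 0), (0, 0, 0, 0), (0, 0, 0, 0))

/-- The first generator, of order 8. -/
def arrA : Arr := ((0, 0, 3, 2), (0, 0, 2, 4), (4, 5, 6, 5), (5, 3, 5, 1))
/-- Its inverse. -/
def arrA' : Arr := ((6, 5, 3, 2), (5, 1, 2, 4), (4, 5, 0, 0), (5, 3, 0, 0))
/-- The second generator, of order 10. -/
def arrB : Arr := ((0, 0, 0, 1), (0, 0, 6, 0), (0, 1, 4, 2), (6, 0, 5, 4))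
/-- Its inverse. -/
def arrB' : Arr := ((4, 2, 0, 6), (5, 4, 1, 0), (0, 6, 0, 0), (1, 0, 0, 0))

/-- The elements. -/
def elems : List Arr :=
  [((1, 0, 0, 0), (0, 1, 0, 0), (0, 0, 1, 0), (0, 0, 0, 1)),
   ((0, 0, 3, 2), (0, 0, 2, 4), (4, 5, 6, 5), (5, 3, 5, 1)),
   ((0, 0, 0, 1), (0, 0, 6, 0), (0, 1, 4, 2), (6, 0, 5, 4)),
   ((1, 0, 0, 3), (0, 1, 4, 0), (0, 3, 6, 0), (4, 0, 0, 6)),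
   ((5, 3, 1, 0), (3, 2, 0, 6), (2, 6, 2, 1), (6, 5, 1, 5)),
   ((5, 3, 5, 1), (3, 2, 1, 2), (5, 5, 1, 5), (5, 2, 5, 6)),
   ((6, 0, 5, 4), (0, 6, 3, 5), (5, 4, 4, 2), (3, 5, 5, 4)),
   ((1, 2, 4, 5), (2, 6, 5, 3), (3, 2, 0, 0), (2, 4, 0, 0)),
   ((4, 0, 1, 6), (0, 4, 1, 1), (0, 6, 0, 5), (1, 0, 2, 0)),
   ((4, 5, 6, 6), (2, 4, 1, 6), (6, 6, 0, 4), (1, 6, 3, 0)),
   ((0, 1, 1, 0), (1, 0, 0, 6), (6, 2, 0, 3), (2, 1, 3, 0)),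
   ((4, 0, 0, 6), (0, 4, 1, 0), (1, 6, 0, 5), (1, 1, 2, 0)),
   ((6, 5, 1, 5), (5, 1, 5, 6), (2, 1, 3, 6), (1, 5, 6, 4)),
   ((5, 2, 5, 6), (2, 2, 6, 2), (5, 5, 1, 6), (5, 2, 6, 6)),
   ((3, 5, 5, 4), (2, 3, 3, 5), (5, 4, 1, 0), (3, 5, 0, 1)),
   ((6, 0, 0, 0), (0, 6, 0, 0), (0, 0, 6, 0), (0, 0, 0, 6)),
   ((2, 4, 4, 1), (4, 5, 1, 3), (0, 0, 5, 3), (0, 0, 3, 2)),
   ((6, 2, 6, 5), (2, 1, 5, 1), (4, 1, 2, 1), (1, 3, 1, 5)),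
   ((1, 1, 6, 2), (6, 1, 5, 6), (2, 0, 5, 6), (0, 2, 1, 5)),
   ((5, 6, 4, 1), (6, 2, 1, 3), (6, 5, 1, 5), (5, 1, 5, 6)),
   ((1, 6, 0, 5), (1, 1, 2, 0), (3, 0, 0, 1), (0, 3, 6, 0)),
   ((4, 5, 1, 2), (2, 4, 5, 1), (1, 2, 2, 2), (5, 1, 5, 2)),
   ((0, 1, 3, 2), (1, 0, 2, 4), (4, 0, 6, 4), (0, 3, 4, 1)),
   ((2, 4, 0, 0), (4, 5, 0, 0), (4, 1, 5, 3), (1, 3, 3, 2)),
   ((1, 0, 2, 0), (0, 1, 0, 2), (2, 0, 5, 0), (0, 2, 0, 5)),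
   ((1, 6, 3, 0), (1, 1, 0, 3), (0, 5, 0, 1), (2, 0, 6, 0)),
   ((2, 1, 3, 0), (1, 5, 0, 4), (1, 3, 6, 4), (3, 6, 4, 1)),
   ((1, 1, 2, 0), (6, 1, 0, 2), (6, 2, 5, 6), (5, 6, 1, 5)),
   ((1, 5, 6, 4), (5, 6, 4, 1), (1, 1, 1, 3), (1, 6, 3, 6)),
   ((5, 2, 6, 6), (2, 2, 6, 1), (4, 5, 1, 3), (5, 3, 3, 6)),
   ((3, 5, 0, 1), (2, 3, 6, 0), (0, 1, 0, 0), (6, 0, 0, 0)),
   ((0, 0, 4, 5), (0, 0, 5, 3), (3, 2, 1, 2), (2, 4, 2, 6)),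
   ((0, 0, 0, 6), (0, 0, 1, 0), (0, 6, 3, 5), (1, 0, 2, 3)),
   ((0, 2, 1, 6), (5, 0, 1, 1), (0, 6, 3, 0), (1, 0, 0, 3)),
   ((6, 4, 3, 0), (4, 1, 0, 4), (4, 5, 0, 1), (5, 3, 1, 0)),
   ((0, 3, 6, 6), (4, 0, 1, 6), (6, 6, 3, 2), (1, 6, 5, 3)),
   ((2, 6, 5, 3), (6, 5, 3, 2), (6, 2, 5, 5), (2, 1, 5, 2)),
   ((6, 1, 2, 3), (1, 1, 3, 5), (1, 1, 3, 0), (1, 6, 0, 4)),
   ((5, 6, 5, 0), (1, 5, 0, 5), (1, 5, 1, 1), (2, 1, 6, 1)),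
   ((0, 2, 0, 6), (5, 0, 1, 0), (1, 6, 3, 0), (1, 1, 0, 3)),
   ((6, 4, 1, 3), (4, 1, 3, 6), (2, 1, 3, 0), (1, 5, 0, 4)),
   ((4, 1, 5, 3), (1, 3, 3, 2), (5, 3, 0, 0), (3, 2, 0, 0)),
   ((2, 0, 5, 0), (0, 2, 0, 5), (6, 0, 5, 0), (0, 6, 0, 5)),
   ((0, 4, 3, 0), (4, 0, 0, 4), (4, 2, 1, 1), (2, 3, 1, 6)),
   ((5, 1, 2, 0), (6, 5, 0, 2), (5, 2, 2, 6), (5, 5, 1, 2)),
   ((5, 3, 0, 0), (3, 2, 0, 0), (3, 6, 2, 4), (6, 4, 4, 5)),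
   ((1, 3, 1, 5), (3, 6, 5, 6), (6, 4, 1, 1), (4, 1, 1, 6)),
   ((0, 2, 1, 5), (5, 0, 2, 1), (0, 5, 6, 5), (2, 0, 2, 6)),
   ((5, 1, 5, 6), (1, 2, 6, 2), (5, 3, 1, 0), (3, 2, 0, 6)),
   ((0, 3, 6, 0), (4, 0, 0, 6), (6, 0, 0, 4), (0, 6, 3, 0)),
   ((5, 1, 5, 2), (6, 5, 5, 5), (2, 0, 2, 6), (0, 2, 1, 2)),
   ((0, 3, 4, 1), (3, 0, 1, 3), (3, 6, 6, 1), (6, 4, 1, 1)),
   ((1, 3, 3, 2), (3, 6, 2, 4), (1, 1, 5, 2), (1, 6, 2, 2)),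
   ((0, 2, 0, 5), (5, 0, 2, 0), (1, 5, 6, 5), (2, 1, 2, 6)),
   ((2, 0, 6, 0), (0, 2, 0, 6), (5, 0, 5, 0), (0, 5, 0, 5)),
   ((3, 6, 4, 1), (6, 4, 1, 3), (4, 1, 4, 1), (1, 3, 1, 3)),
   ((5, 6, 1, 5), (1, 5, 2, 1), (5, 0, 1, 1), (0, 5, 6, 1)),
   ((1, 6, 3, 6), (6, 6, 6, 4), (4, 1, 0, 4), (1, 3, 4, 0)),
   ((5, 3, 3, 6), (3, 2, 6, 4), (0, 0, 2, 4), (0, 0, 4, 5)),
   ((6, 0, 0, 4), (0, 6, 3, 0), (0, 4, 1, 0), (3, 0, 0, 1)),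
   ((2, 4, 6, 0), (4, 5, 0, 1), (5, 1, 5, 6), (1, 2, 6, 2)),
   ((2, 4, 2, 6), (4, 5, 6, 5), (2, 2, 6, 2), (2, 5, 2, 1)),
   ((1, 0, 2, 3), (0, 1, 4, 2), (2, 3, 3, 5), (4, 2, 2, 3)),
   ((6, 2, 5, 5), (2, 1, 5, 2), (5, 1, 2, 4), (1, 2, 4, 5)),
   ((1, 1, 4, 5), (6, 1, 2, 4), (0, 3, 6, 6), (4, 0, 1, 6)),
   ((5, 1, 2, 1), (6, 5, 6, 2), (5, 3, 6, 1), (4, 5, 6, 6)),
   ((0, 3, 1, 5), (3, 0, 5, 6), (6, 0, 0, 1), (0, 1, 1, 0)),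
   ((5, 6, 2, 6), (6, 2, 6, 5), (1, 0, 2, 4), (0, 6, 4, 5)),
   ((1, 6, 2, 1), (1, 1, 6, 2), (5, 3, 2, 6), (4, 5, 1, 2)),
   ((0, 6, 0, 0), (1, 0, 0, 0), (3, 5, 0, 1), (2, 3, 6, 0)),
   ((4, 5, 1, 3), (5, 3, 3, 6), (2, 5, 1, 1), (5, 5, 1, 6)),
   ((2, 5, 5, 1), (2, 2, 6, 5), (5, 1, 2, 0), (6, 5, 0, 2)),
   ((4, 2, 1, 1), (2, 3, 1, 6), (0, 3, 4, 0), (3, 0, 0, 3)),
   ((0, 5, 0, 1), (2, 0, 6, 0), (6, 1, 4, 0), (6, 6, 0, 4)),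
   ((5, 0, 5, 1), (0, 5, 6, 5), (5, 1, 5, 2), (6, 5, 5, 5)),
   ((4, 1, 1, 6), (1, 3, 6, 6), (0, 3, 4, 1), (3, 0, 1, 3)),
   ((0, 6, 3, 5), (1, 0, 2, 3), (0, 0, 0, 1), (0, 0, 6, 0)),
   ((4, 5, 6, 5), (5, 3, 5, 1), (0, 0, 4, 5), (0, 0, 5, 3)),
   ((6, 4, 1, 1), (4, 1, 1, 6), (6, 4, 6, 2), (4, 1, 2, 1)),
   ((0, 5, 6, 5), (2, 0, 2, 6), (0, 5, 6, 2), (2, 0, 5, 6)),
   ((5, 1, 5, 3), (6, 5, 4, 5), (2, 1, 6, 1), (6, 2, 6, 6)),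
   ((0, 3, 1, 6), (3, 0, 6, 6), (6, 1, 0, 3), (1, 1, 3, 0)),
   ((1, 3, 1, 3), (3, 6, 3, 6), (3, 0, 5, 6), (0, 4, 6, 2)),
   ((0, 2, 0, 2), (5, 0, 5, 0), (1, 2, 1, 5), (5, 1, 2, 1)),
   ((1, 6, 5, 3), (1, 1, 4, 5), (2, 1, 2, 6), (6, 2, 1, 2)),
   ((2, 1, 5, 2), (1, 5, 2, 2), (6, 1, 5, 5), (1, 1, 5, 2)),
   ((1, 6, 0, 4), (6, 6, 4, 0), (0, 3, 1, 6), (3, 0, 6, 6)),
   ((2, 1, 6, 1), (6, 2, 6, 6), (2, 6, 2, 4), (1, 2, 3, 2)),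
   ((1, 1, 0, 3), (6, 1, 4, 0), (4, 5, 6, 6), (2, 4, 1, 6)),
   ((1, 5, 0, 4), (5, 6, 4, 0), (0, 1, 1, 0), (1, 0, 0, 6)),
   ((3, 2, 0, 0), (2, 4, 0, 0), (6, 5, 3, 2), (5, 1, 2, 4)),
   ((0, 6, 0, 5), (1, 0, 2, 0), (3, 0, 6, 1), (0, 3, 6, 6)),
   ((2, 3, 1, 6), (3, 5, 6, 6), (3, 0, 6, 6), (0, 4, 6, 1)),
   ((5, 5, 1, 2), (2, 5, 5, 1), (1, 2, 3, 2), (5, 1, 5, 3)),
   ((6, 4, 4, 5), (4, 1, 5, 3), (6, 6, 2, 5), (6, 1, 5, 5)),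
   ((2, 0, 2, 6), (0, 2, 1, 2), (2, 6, 2, 5), (1, 2, 2, 2)),
   ((3, 2, 0, 6), (2, 4, 6, 0), (6, 4, 3, 0), (4, 1, 0, 4)),
   ((0, 6, 3, 0), (1, 0, 0, 3), (0, 5, 6, 1), (2, 0, 6, 6)),
   ((0, 2, 1, 2), (5, 0, 5, 1), (0, 2, 1, 5), (5, 0, 2, 1)),
   ((1, 6, 2, 2), (6, 6, 2, 5), (2, 1, 5, 2), (1, 5, 2, 2)),
   ((2, 1, 2, 6), (6, 2, 1, 2), (6, 1, 2, 4), (6, 6, 3, 2)),
   ((0, 5, 0, 5), (2, 0, 2, 0), (6, 5, 6, 2), (2, 6, 5, 6)),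
   ((0, 5, 6, 1), (2, 0, 6, 6), (0, 1, 4, 0), (6, 0, 0, 4)),
   ((1, 3, 4, 0), (3, 6, 0, 3), (3, 2, 0, 6), (2, 4, 6, 0)),
   ((6, 5, 3, 2), (5, 1, 2, 4), (4, 5, 0, 0), (5, 3, 0, 0)),
   ((3, 0, 6, 1), (0, 3, 6, 6), (0, 1, 0, 2), (6, 0, 5, 0)),
   ((3, 2, 1, 1), (5, 3, 6, 1), (1, 1, 0, 3), (6, 1, 4, 0)),
   ((0, 6, 6, 0), (6, 0, 0, 1), (1, 5, 0, 4), (5, 6, 4, 0)),
   ((3, 0, 0, 1), (0, 3, 6, 0), (6, 1, 0, 2), (6, 6, 5, 0)),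
   ((1, 2, 6, 2), (2, 6, 2, 1), (5, 6, 4, 1), (6, 2, 1, 3)),
   ((2, 5, 2, 1), (5, 5, 1, 5), (2, 2, 6, 1), (2, 5, 1, 1)),
   ((4, 2, 2, 3), (5, 4, 4, 2), (2, 3, 6, 0), (4, 2, 0, 6)),
   ((2, 5, 1, 1), (5, 5, 1, 6), (3, 2, 6, 4), (2, 4, 4, 1)),
   ((6, 0, 5, 3), (0, 1, 3, 2), (5, 6, 2, 6), (6, 2, 6, 5)),
   ((2, 4, 5, 1), (3, 2, 6, 5), (1, 6, 2, 1), (1, 1, 6, 2)),
   ((6, 6, 6, 4), (6, 1, 4, 1), (1, 5, 6, 4), (5, 6, 4, 1)),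
   ((6, 2, 5, 6), (5, 6, 1, 5), (6, 6, 5, 0), (1, 6, 0, 5)),
   ((2, 1, 5, 1), (1, 5, 1, 2), (6, 0, 5, 3), (0, 1, 3, 2)),
   ((6, 6, 4, 2), (6, 1, 2, 3), (3, 0, 0, 3), (0, 4, 3, 0)),
   ((6, 2, 0, 2), (5, 6, 5, 0), (1, 2, 0, 5), (5, 1, 2, 0)),
   ((0, 0, 5, 3), (0, 0, 3, 2), (5, 3, 3, 6), (3, 2, 6, 4)),
   ((0, 0, 1, 0), (0, 0, 0, 1), (6, 0, 0, 0), (0, 6, 0, 0)),
   ((5, 0, 1, 1), (0, 5, 6, 1), (2, 1, 6, 2), (6, 2, 5, 6)),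
   ((4, 1, 0, 4), (1, 3, 4, 0), (6, 1, 4, 1), (1, 1, 1, 3)),
   ((4, 0, 2, 1), (0, 3, 1, 5), (1, 3, 1, 3), (3, 6, 3, 6)),
   ((6, 5, 6, 2), (2, 6, 5, 6), (0, 2, 0, 2), (5, 0, 5, 0)),
   ((6, 1, 0, 3), (1, 1, 3, 0), (0, 4, 6, 1), (4, 0, 1, 1)),
   ((4, 0, 1, 1), (0, 3, 1, 6), (2, 3, 1, 6), (3, 5, 6, 6)),
   ((6, 5, 4, 5), (2, 6, 2, 4), (5, 5, 1, 2), (2, 5, 5, 1)),
   ((6, 2, 1, 2), (5, 6, 5, 1), (0, 2, 0, 5), (5, 0, 2, 0)),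
   ((1, 1, 5, 2), (1, 6, 2, 2), (6, 4, 4, 5), (4, 1, 5, 3)),
   ((2, 2, 6, 2), (2, 5, 2, 1), (5, 3, 5, 1), (3, 2, 1, 2)),
   ((2, 3, 3, 5), (4, 2, 2, 3), (6, 0, 5, 4), (0, 6, 3, 5)),
   ((2, 6, 2, 1), (6, 5, 1, 5), (2, 4, 6, 0), (4, 5, 0, 1)),
   ((6, 1, 5, 5), (1, 1, 5, 2), (5, 6, 2, 5), (6, 2, 5, 5)),
   ((2, 6, 2, 4), (1, 2, 3, 2), (5, 6, 1, 6), (1, 5, 1, 1)),
   ((1, 1, 3, 5), (1, 6, 5, 4), (4, 0, 0, 4), (0, 3, 4, 0)),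
   ((5, 0, 2, 1), (0, 5, 6, 2), (1, 1, 6, 2), (6, 1, 5, 6)),
   ((4, 1, 2, 1), (1, 3, 1, 5), (1, 5, 1, 2), (5, 6, 2, 6)),
   ((3, 6, 0, 3), (6, 4, 3, 0), (1, 6, 3, 6), (6, 6, 6, 4)),
   ((0, 6, 4, 5), (6, 0, 5, 3), (3, 0, 1, 3), (0, 4, 3, 6)),
   ((2, 3, 6, 0), (4, 2, 0, 6), (3, 5, 5, 4), (2, 3, 3, 5)),
   ((5, 5, 1, 6), (5, 2, 6, 6), (2, 5, 2, 1), (5, 5, 1, 5)),
   ((6, 5, 0, 2), (2, 6, 5, 0), (6, 2, 0, 2), (5, 6, 5, 0)),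
   ((3, 0, 0, 3), (0, 4, 3, 0), (1, 1, 3, 5), (1, 6, 5, 4)),
   ((6, 6, 0, 4), (1, 6, 3, 0), (3, 2, 1, 1), (5, 3, 6, 1)),
   ((6, 5, 5, 5), (2, 6, 2, 5), (4, 5, 1, 2), (2, 4, 5, 1)),
   ((3, 0, 1, 3), (0, 4, 3, 6), (0, 1, 3, 2), (1, 0, 2, 4)),
   ((0, 0, 6, 0), (0, 0, 0, 6), (1, 0, 0, 0), (0, 1, 0, 0)),
   ((2, 0, 5, 6), (0, 2, 1, 5), (6, 6, 1, 5), (1, 6, 2, 1)),
   ((6, 2, 6, 6), (5, 6, 1, 6), (5, 6, 5, 0), (1, 5, 0, 5)),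
   ((1, 1, 3, 0), (1, 6, 0, 4), (1, 6, 5, 4), (6, 6, 4, 2)),
   ((0, 4, 6, 2), (4, 0, 2, 1), (1, 0, 0, 6), (0, 6, 6, 0)),
   ((3, 0, 6, 6), (0, 4, 6, 1), (5, 4, 6, 1), (4, 2, 1, 1)),
   ((1, 2, 3, 2), (5, 1, 5, 3), (2, 2, 6, 5), (5, 2, 2, 6)),
   ((2, 4, 1, 6), (3, 2, 1, 1), (5, 1, 2, 1), (6, 5, 6, 2)),
   ((1, 0, 0, 6), (0, 6, 6, 0), (0, 3, 1, 5), (3, 0, 5, 6)),
   ((5, 1, 2, 4), (1, 2, 4, 5), (1, 5, 2, 2), (5, 6, 2, 5)),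
   ((0, 4, 6, 1), (4, 0, 1, 1), (1, 6, 0, 4), (6, 6, 4, 0)),
   ((1, 2, 2, 2), (5, 1, 5, 2), (3, 2, 6, 5), (5, 3, 2, 6)),
   ((2, 0, 6, 6), (0, 2, 1, 6), (5, 6, 1, 5), (1, 5, 2, 1)),
   ((1, 5, 2, 2), (5, 6, 2, 5), (2, 6, 5, 3), (6, 5, 3, 2)),
   ((6, 6, 3, 2), (1, 6, 5, 3), (0, 4, 1, 1), (3, 0, 6, 1)),
   ((2, 6, 5, 6), (1, 2, 1, 5), (2, 4, 1, 6), (3, 2, 1, 1)),
   ((1, 5, 1, 2), (5, 6, 2, 6), (3, 6, 5, 6), (6, 4, 6, 2)),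
   ((6, 6, 1, 5), (1, 6, 2, 1), (5, 0, 2, 1), (0, 5, 6, 2)),
   ((2, 1, 3, 6), (1, 5, 6, 4), (1, 2, 6, 2), (2, 6, 2, 1)),
   ((6, 1, 0, 2), (6, 6, 5, 0), (4, 0, 0, 6), (0, 4, 1, 0)),
   ((3, 2, 6, 5), (5, 3, 2, 6), (6, 5, 5, 5), (2, 6, 2, 5)),
   ((6, 0, 5, 0), (0, 6, 0, 5), (5, 0, 2, 0), (0, 5, 0, 2)),
   ((6, 1, 4, 0), (6, 6, 0, 4), (0, 2, 0, 6), (5, 0, 1, 0)),
   ((5, 6, 4, 0), (6, 2, 0, 3), (6, 4, 1, 3), (4, 1, 3, 6)),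
   ((6, 6, 5, 0), (1, 6, 0, 5), (1, 5, 2, 1), (2, 1, 6, 2)),
   ((6, 2, 1, 3), (2, 1, 3, 6), (6, 6, 6, 4), (6, 1, 4, 1)),
   ((4, 2, 0, 6), (5, 4, 1, 0), (0, 6, 0, 0), (1, 0, 0, 0)),
   ((2, 1, 6, 2), (6, 2, 5, 6), (2, 0, 6, 6), (0, 2, 1, 6)),
   ((6, 1, 4, 1), (1, 1, 1, 3), (3, 6, 0, 3), (6, 4, 3, 0)),
   ((4, 5, 0, 0), (5, 3, 0, 0), (1, 2, 4, 5), (2, 6, 5, 3)),
   ((4, 0, 0, 4), (0, 3, 4, 0), (6, 6, 4, 2), (6, 1, 2, 3)),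
   ((2, 0, 2, 0), (0, 2, 0, 2), (2, 0, 6, 0), (0, 2, 0, 6)),
   ((3, 6, 3, 6), (6, 4, 6, 4), (3, 6, 4, 1), (6, 4, 1, 3)),
   ((1, 5, 6, 5), (2, 1, 2, 6), (0, 5, 0, 2), (2, 0, 5, 0)),
   ((5, 4, 6, 1), (4, 2, 1, 1), (4, 0, 1, 1), (0, 3, 1, 6)),
   ((5, 0, 1, 0), (0, 5, 0, 1), (2, 0, 2, 0), (0, 2, 0, 2)),
   ((4, 5, 0, 1), (5, 3, 1, 0), (1, 3, 4, 0), (3, 6, 0, 3)),
   ((0, 1, 4, 2), (6, 0, 5, 4), (0, 0, 0, 6), (0, 0, 1, 0)),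
   ((6, 1, 2, 4), (6, 6, 3, 2), (5, 6, 5, 1), (1, 5, 6, 5)),
   ((3, 0, 5, 6), (0, 4, 6, 2), (6, 4, 6, 4), (4, 1, 4, 1)),
   ((1, 2, 0, 5), (5, 1, 2, 0), (1, 5, 0, 5), (2, 1, 2, 0)),
   ((2, 1, 2, 0), (6, 2, 0, 2), (6, 2, 6, 6), (5, 6, 1, 6)),
   ((6, 0, 0, 1), (0, 1, 1, 0), (0, 4, 6, 2), (4, 0, 2, 1)),
   ((0, 4, 3, 6), (4, 0, 6, 4), (4, 1, 1, 6), (1, 3, 6, 6)),
   ((5, 5, 1, 5), (5, 2, 5, 6), (2, 4, 2, 6), (4, 5, 6, 5)),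
   ((2, 2, 6, 1), (2, 5, 1, 1), (5, 2, 5, 6), (2, 2, 6, 2)),
   ((6, 2, 0, 3), (2, 1, 3, 0), (0, 6, 6, 0), (6, 0, 0, 1)),
   ((2, 2, 6, 5), (5, 2, 2, 6), (6, 5, 4, 5), (2, 6, 2, 4)),
   ((6, 6, 4, 0), (6, 1, 0, 3), (6, 1, 2, 3), (1, 1, 3, 5)),
   ((1, 2, 1, 5), (5, 1, 2, 1), (0, 5, 0, 5), (2, 0, 2, 0)),
   ((3, 2, 6, 4), (2, 4, 4, 1), (5, 2, 6, 6), (2, 2, 6, 1)),
   ((1, 1, 1, 3), (1, 6, 3, 6), (6, 2, 1, 3), (2, 1, 3, 6)),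
   ((5, 0, 5, 0), (0, 5, 0, 5), (5, 0, 1, 0), (0, 5, 0, 1)),
   ((3, 5, 6, 6), (5, 4, 6, 1), (0, 4, 3, 0), (4, 0, 0, 4)),
   ((5, 0, 2, 0), (0, 5, 0, 2), (1, 0, 2, 0), (0, 1, 0, 2)),
   ((3, 2, 1, 2), (2, 4, 2, 6), (0, 0, 3, 2), (0, 0, 2, 4)),
   ((1, 5, 1, 1), (2, 1, 6, 1), (2, 1, 2, 0), (6, 2, 0, 2)),
   ((0, 3, 4, 0), (3, 0, 0, 3), (3, 5, 6, 6), (5, 4, 6, 1)),
   ((6, 1, 5, 6), (6, 6, 1, 5), (2, 4, 5, 1), (3, 2, 6, 5)),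
   ((1, 6, 5, 4), (6, 6, 4, 2), (6, 6, 4, 0), (6, 1, 0, 3)),
   ((5, 3, 6, 1), (4, 5, 6, 6), (2, 6, 5, 6), (1, 2, 1, 5)),
   ((1, 0, 2, 4), (0, 6, 4, 5), (2, 1, 5, 1), (1, 5, 1, 2)),
   ((0, 1, 0, 0), (6, 0, 0, 0), (4, 2, 0, 6), (5, 4, 1, 0)),
   ((1, 5, 0, 5), (2, 1, 2, 0), (6, 5, 0, 2), (2, 6, 5, 0)),
   ((5, 2, 2, 6), (5, 5, 1, 2), (2, 6, 5, 0), (1, 2, 0, 5)),
   ((5, 6, 2, 5), (6, 2, 5, 5), (1, 6, 2, 2), (6, 6, 2, 5)),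
   ((5, 3, 2, 6), (4, 5, 1, 2), (6, 1, 5, 6), (6, 6, 1, 5)),
   ((1, 5, 2, 1), (2, 1, 6, 2), (1, 1, 2, 0), (6, 1, 0, 2)),
   ((0, 4, 1, 1), (3, 0, 6, 1), (1, 1, 4, 5), (6, 1, 2, 4)),
   ((1, 3, 6, 4), (3, 6, 4, 1), (5, 6, 4, 0), (6, 2, 0, 3)),
   ((3, 6, 2, 4), (6, 4, 4, 5), (2, 4, 0, 0), (4, 5, 0, 0)),
   ((2, 6, 5, 0), (1, 2, 0, 5), (2, 5, 5, 1), (2, 2, 6, 5)),
   ((6, 4, 6, 2), (4, 1, 2, 1), (1, 3, 6, 6), (3, 6, 6, 1)),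
   ((0, 5, 6, 2), (2, 0, 5, 6), (0, 2, 1, 2), (5, 0, 5, 1)),
   ((0, 4, 1, 0), (3, 0, 0, 1), (1, 0, 0, 3), (0, 1, 4, 0)),
   ((2, 6, 2, 5), (1, 2, 2, 2), (5, 0, 5, 1), (0, 5, 6, 5)),
   ((0, 5, 0, 2), (2, 0, 5, 0), (6, 2, 1, 2), (5, 6, 5, 1)),
   ((4, 1, 3, 6), (1, 3, 6, 4), (3, 6, 3, 6), (6, 4, 6, 4)),
   ((5, 6, 5, 1), (1, 5, 6, 5), (1, 6, 5, 3), (1, 1, 4, 5)),
   ((6, 4, 6, 4), (4, 1, 4, 1), (4, 0, 2, 1), (0, 3, 1, 5)),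
   ((0, 0, 2, 4), (0, 0, 4, 5), (2, 4, 4, 1), (4, 5, 1, 3)),
   ((0, 1, 4, 0), (6, 0, 0, 4), (0, 2, 1, 6), (5, 0, 1, 1)),
   ((5, 4, 4, 2), (3, 5, 5, 4), (1, 0, 2, 3), (0, 1, 4, 2)),
   ((4, 1, 4, 1), (1, 3, 1, 3), (4, 1, 3, 6), (1, 3, 6, 4)),
   ((4, 0, 6, 4), (0, 3, 4, 1), (0, 6, 4, 5), (6, 0, 5, 3)),
   ((5, 6, 1, 6), (1, 5, 1, 1), (5, 1, 5, 3), (6, 5, 4, 5)),
   ((1, 3, 6, 6), (3, 6, 6, 1), (1, 3, 1, 5), (3, 6, 5, 6)),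
   ((0, 1, 0, 2), (6, 0, 5, 0), (4, 0, 1, 6), (0, 4, 1, 1)),
   ((5, 4, 1, 0), (3, 5, 0, 1), (4, 2, 2, 3), (5, 4, 4, 2)),
   ((6, 6, 2, 5), (6, 1, 5, 5), (1, 3, 3, 2), (3, 6, 2, 4)),
   ((3, 6, 6, 1), (6, 4, 1, 1), (0, 4, 3, 6), (4, 0, 6, 4)),
   ((3, 6, 5, 6), (6, 4, 6, 2), (6, 2, 6, 5), (2, 1, 5, 1))]

/-- An element is trivial, fixed-point-free of order 3 or 5, or has a power equal to -1. -/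
def okArr (x : Arr) : Bool :=
  x == arrOne || arrAdd (arrAdd arrOne x) (arrMul x x) == arrZero ||
  arrAdd (arrAdd (arrAdd (arrAdd arrOne x) (arrMul x x)) (arrMul (arrMul x x) x))
    (arrMul (arrMul x x) (arrMul x x)) == arrZero ||
  arrMul (arrMul x x) x == arrNeg || arrMul (arrMul x x) (arrMul x x) == arrNeg ||
  arrMul (arrMul (arrMul x x) (arrMul x x)) x == arrNeg ||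
  arrMul (arrMul (arrMul x x) x) (arrMul (arrMul x x) x) == arrNeg

theorem elems_one : elems.contains arrOne = true := by decide +kernel

theorem elems_closed : (elems.all fun x =>
    [arrA, arrA', arrB, arrB'].all fun g => elems.contains (arrMul x g)) = true := by decide +kernel

theorem elems_ok : elems.all okArr = true := by decide +kernel

/-- The matrix of an array. -/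
def toMat (A : Arr) : Matrix (Fin 4) (Fin 4) (ZMod 7) :=
  !![(A.1.1 : ZMod 7), A.1.2.1, A.1.2.2.1, A.1.2.2.2;
     (A.2.1.1 : ZMod 7), A.2.1.2.1, A.2.1.2.2.1, A.2.1.2.2.2;
     (A.2.2.1.1 : ZMod 7), A.2.2.1.2.1, A.2.2.1.2.2.1, A.2.2.1.2.2.2;
     (A.2.2.2.1 : ZMod 7), A.2.2.2.2.1, A.2.2.2.2.2.1, A.2.2.2.2.2.2]

theorem toMat_mul (A B : Arr) : toMat (arrMul A B) = toMat A * toMat B := by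
  ext i j
  fin_cases i <;> fin_cases j <;>
    simp [toMat, arrMul, rowMul, Matrix.mul_apply, Fin.sum_univ_four, ZMod.natCast_mod]

theorem toMat_add (A B : Arr) : toMat (arrAdd A B) = toMat A + toMat B := by
  ext i j
  fin_cases i <;> fin_cases j <;> simp [toMat, arrAdd, rowAdd, ZMod.natCast_mod]

theorem toMat_one : toMat arrOne = 1 := by decide +kernel

theorem toMat_neg : toMat arrNeg = -1 := by decide +kernel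

theorem toMat_zero : toMat arrZero = 0 := by decide +kernel

end Cfsg.Agent.SpecTen
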