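/-
An extension of modules for the double cover of `S₅` with the element orders of `A₁₀`.
-/
import Cfsg.Agent.Lib.SpecTen.Elements
import Mathlib.Data.Fintype.Prod
import Mathlib.LinearAlgebra.Matrix.NonsingularInverse
import Mathlib.GroupTheory.OrderOfElement

set_option autoImplicit false

namespace Cfsg.Agent.SpecTen

open Matrix

/-- Square matrices of degree four modulo 7. -/
abbrev Mat : Type := Matrix (Fin 4) (Fin 4) (ZMod 7)

theorem toMat_unit (A B : Arr) (h : arrMul A B = arrOne) : toMat A * toMat B = 1 := by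
  rw [← toMat_mul, h, toMat_one]

/-- The first generator. -/
def uA : Matˣ := ⟨toMat arrA, toMat arrA', toMat_unit _ _ (by decide +kernel), toMat_unit _ _ (by decide +kernel)⟩

/-- The second generator. -/
def uB : Matˣ := ⟨toMat arrB, toMat arrB', toMat_unit _ _ (by decide +kernel), toMat_unit _ _ (by decide +kernel)⟩

/-- The double cover of `S₅`. -/
def Cov : Subgroup Matˣ := Subgroup.closure {uA, uB}

theorem exists_elem (c : Cov) : ∃ x ∈ elems, ((c : Matˣ) : Mat) = toMat x := by
  obtain ⟨c, hc⟩ := c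
  show ∃ x ∈ elems, (c : Mat) = toMat x
  have step : ∀ (d : Matˣ) (g : Arr), g ∈ [arrA, arrA', arrB, arrB'] → ((d : Mat)) = toMat g →
      ∀ y : Matˣ, (∃ x ∈ elems, (y : Mat) = toMat x) → ∃ x ∈ elems, ((y * d : Matˣ) : Mat) = toMat x := by
    rintro d g hg hd y ⟨x, hx, hxy⟩
    refine ⟨arrMul x g, ?_, by rw [Units.val_mul, toMat_mul, hxy, hd]⟩
    simpa using List.all_eq_true.1 (List.all_eq_true.1 elems_closed x hx) g hg
  induction hc using Subgroup.closure_induction_right with
  | one => exact ⟨arrOne, by simpa using elems_one, by rw [toMat_one]; rfl⟩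
  | mul_right y _ d hd ih =>
    rcases hd with rfl | rfl
    · exact step _ arrA (by simp) rfl y ih
    · exact step _ arrB (by simp) rfl y ih
  | mul_inv_cancel y _ d hd ih =>
    rcases hd with rfl | rfl
    · exact step _ arrA' (by simp) rfl y ih
    · exact step _ arrB' (by simp) rfl y ih

/-- The dichotomy for elements. -/
theorem cov_cases (c : Cov) : c = 1 ∨
    (∃ n, (n = 3 ∨ n = 5) ∧ ∑ i ∈ Finset.range n, ((c : Matˣ) : Mat) ^ i = 0) ∨
    ∃ k ∈ ({3, 4, 5, 6} : Finset ℕ), ((c : Matˣ) : Mat) ^ k = -1 := by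
  obtain ⟨x, hx, hc⟩ := exists_elem c
  have h := List.all_eq_true.1 elems_ok x hx
  simp only [okArr, Bool.or_eq_true, beq_iff_eq] at h
  rw [hc]
  rcases h with (((((h | h) | h) | h) | h) | h) | h
  · exact Or.inl (Subtype.ext (Units.ext (by rw [hc, h, toMat_one]; rfl)))
  · refine Or.inr (Or.inl ⟨3, Or.inl rfl, ?_⟩)
    have := congrArg toMat h
    simpa [toMat_add, toMat_mul, toMat_one, toMat_zero, Finset.sum_range_succ, pow_succ] using this
  · refine Or.inr (Or.inl ⟨5, Or.inr rfl, ?_⟩)
    have := congrArg toMat h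
    simpa [toMat_add, toMat_mul, toMat_one, toMat_zero, Finset.sum_range_succ, pow_succ, mul_assoc] using this
  · refine Or.inr (Or.inr ⟨3, by simp, ?_⟩)
    have := congrArg toMat h
    simpa [toMat_mul, toMat_neg, pow_succ, mul_assoc] using this
  · refine Or.inr (Or.inr ⟨4, by simp, ?_⟩)
    have := congrArg toMat h
    simpa [toMat_mul, toMat_neg, pow_succ, mul_assoc] using this
  · refine Or.inr (Or.inr ⟨5, by simp, ?_⟩)
    have := congrArg toMat h
    simpa [toMat_mul, toMat_neg, pow_succ, mul_assoc] using this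
  · refine Or.inr (Or.inr ⟨6, by simp, ?_⟩)
    have := congrArg toMat h
    simpa [toMat_mul, toMat_neg, pow_succ, mul_assoc] using this

theorem fixed_eq_zero {c : Cov} (hc : c ≠ 1) {v : Fin 4 → ZMod 7} (h : ((c : Matˣ) : Mat) *ᵥ v = v) : v = 0 := by
  have hp : ∀ i, ((c : Matˣ) : Mat) ^ i *ᵥ v = v := by
    intro i
    induction i with
    | zero => simp
    | succ i ih => rw [pow_succ, ← Matrix.mulVec_mulVec, h, ih]
  rcases cov_cases c with h1 | ⟨n, hn, hs⟩ | ⟨k, _, hk⟩
  · exact absurd h1 hc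
  · have h0 : (n : ZMod 7) • v = 0 := by
      have := congrArg (fun M : Mat => M *ᵥ v) hs
      simp only [Matrix.sum_mulVec, hp, Finset.sum_const, Finset.card_range, Matrix.zero_mulVec] at this
      rwa [Nat.cast_smul_eq_nsmul]
    have hne : (n : ZMod 7) ≠ 0 := by rcases hn with rfl | rfl <;> decide
    funext i
    have h2 : (n : ZMod 7) * v i = 0 := congrFun h0 i
    show v i = 0
    revert h2
    generalize v i = a
    rcases hn with rfl | rfl <;> (revert a; decide)
  · have h1 := hp k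
    rw [hk, Matrix.neg_mulVec, Matrix.one_mulVec] at h1
    funext i
    have h2 : -v i = v i := congrFun h1 i
    show v i = 0
    revert h2
    generalize v i = a
    revert a
    decide

theorem uA_mem : uA ∈ Cov := Subgroup.subset_closure (by simp)
theorem uB_mem : uB ∈ Cov := Subgroup.subset_closure (by simp)

/-- The central involution. -/
def zCov : Cov := ⟨uA ^ 4, pow_mem uA_mem 4⟩

theorem zCov_val : ((zCov : Matˣ) : Mat) = -1 := by
  show ((uA ^ 4 : Matˣ) : Mat) = -1
  rw [Units.val_pow_eq_pow_val, ← toMat_neg, show (uA : Mat) = toMat arrA from rfl, pow_succ, pow_succ, pow_succ,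
    pow_one, ← toMat_mul, ← toMat_mul, ← toMat_mul]
  congr 1

theorem zCov_comm (c : Cov) : zCov * c = c * zCov :=
  Subtype.ext (Units.ext (by simp [zCov_val]))

theorem eq_zCov {c : Cov} (h : ((c : Matˣ) : Mat) = -1) : c = zCov :=
  Subtype.ext (Units.ext (h.trans zCov_val.symm))

theorem zCov_sq : zCov * zCov = 1 := Subtype.ext (Units.ext (by simp [zCov_val]))

theorem zCov_ne : zCov ≠ 1 := fun h => by
  have := congrArg (fun x : Cov => ((x : Matˣ) : Mat)) h
  simp only [zCov_val, OneMemClass.coe_one, Units.val_one] at this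
  revert this
  decide +kernel

/-- Functions to `ZMod 3` on which the central involution acts as -1. -/
def oddFun : AddSubgroup (Cov → ZMod 3) where
  carrier := {f | ∀ x, f (zCov * x) = -f x}
  zero_mem' := fun x => by simp
  add_mem' := fun {f g} hf hg x => by simp [hf x, hg x, add_comm]
  neg_mem' := fun {f} hf x => by simp [hf x]

/-- The two modules together. -/
abbrev Mod10 : Type := (Fin 4 → ZMod 7) × oddFun

/-- The action. -/
def act (c : Cov) : Mod10 →+ Mod10 where
  toFun a := (((c : Matˣ) : Mat) *ᵥ a.1, ⟨fun x => (a.2 : Cov → ZMod 3) (c⁻¹ * x), fun x => by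
    show (a.2 : Cov → ZMod 3) (c⁻¹ * (zCov * x)) = -(a.2 : Cov → ZMod 3) (c⁻¹ * x)
    rw [show c⁻¹ * (zCov * x) = zCov * (c⁻¹ * x) by rw [← mul_assoc, ← zCov_comm, mul_assoc]]
    exact a.2.2 _⟩)
  map_zero' := Prod.ext (by simp) (Subtype.ext (funext fun x => rfl))
  map_add' a b := Prod.ext (by simp [Matrix.mulVec_add]) (Subtype.ext (funext fun x => rfl))

theorem act_one (a : Mod10) : act 1 a = a :=
  Prod.ext (by simp [act]) (Subtype.ext (funext fun x => by simp [act]))

theorem act_mul (c d : Cov) (a : Mod10) : act (c * d) a = act c (act d a) :=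
  Prod.ext (by simp [act, Matrix.mulVec_mulVec]) (Subtype.ext (funext fun x => by simp [act, mul_assoc]))

theorem act_z (a : Mod10) : act zCov a = -a := by
  refine Prod.ext (by simp [act, zCov_val, Matrix.neg_mulVec]) (Subtype.ext (funext fun x => ?_))
  show (a.2 : Cov → ZMod 3) (zCov⁻¹ * x) = -(a.2 : Cov → ZMod 3) x
  rw [show zCov⁻¹ = zCov from inv_eq_of_mul_eq_one_left zCov_sq]
  exact a.2.2 x

/-- The extension. -/
@[ext] structure Ext where
  /-- module part -/
  vec : Mod10
  /-- top part -/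
  top : Cov

namespace Ext

instance : Mul Ext := ⟨fun g h => ⟨g.vec + act g.top h.vec, g.top * h.top⟩⟩
instance : One Ext := ⟨⟨0, 1⟩⟩
instance : Inv Ext := ⟨fun g => ⟨-act g.top⁻¹ g.vec, g.top⁻¹⟩⟩

@[simp] theorem mul_vec (g h : Ext) : (g * h).vec = g.vec + act g.top h.vec := rfl
@[simp] theorem mul_top (g h : Ext) : (g * h).top = g.top * h.top := rfl
@[simp] theorem one_vec : (1 : Ext).vec = 0 := rfl
@[simp] theorem one_top : (1 : Ext).top = 1 := rfl
@[simp] theorem inv_vec (g : Ext) : g⁻¹.vec = -act g.top⁻¹ g.vec := rfl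
@[simp] theorem inv_top (g : Ext) : g⁻¹.top = g.top⁻¹ := rfl

instance : Group Ext where
  mul_assoc g h k := Ext.ext (by simp [act_mul, add_assoc]) (mul_assoc _ _ _)
  one_mul g := Ext.ext (by simp [act_one]) (one_mul _)
  mul_one g := Ext.ext (by simp) (mul_one _)
  inv_mul_cancel g := Ext.ext (by simp) (inv_mul_cancel _)

instance : Finite Ext := by
  haveI : Finite Matˣ := inferInstance
  exact Finite.of_injective (fun g : Ext => (g.vec, g.top)) fun g h hgh =>
    Ext.ext (congrArg Prod.fst hgh) (congrArg Prod.snd hgh)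

theorem pow_def (g : Ext) : ∀ k : ℕ, g ^ k = ⟨∑ i ∈ Finset.range k, act (g.top ^ i) g.vec, g.top ^ k⟩
  | 0 => by ext1 <;> simp
  | k + 1 => by
    rw [pow_succ, pow_def g k]
    ext1 <;> simp [Finset.sum_range_succ, pow_succ]

/-- The vectors with their image. -/
theorem nsmul_21 (a : Mod10) : (21 : ℕ) • a = 0 := by
  refine Prod.ext (funext fun i => ?_) (Subtype.ext (funext fun x => ?_))
  · show (21 : ℕ) • a.1 i = 0
    generalize a.1 i = b; revert b; decide
  · show (21 : ℕ) • (a.2 : Cov → ZMod 3) x = 0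
    generalize (a.2 : Cov → ZMod 3) x = b; revert b; decide

theorem pow_21 {g : Ext} (h : g.top = 1) : g ^ 21 = 1 := by
  rw [pow_def]
  ext1
  · simp [h, act_one, nsmul_21]
  · simp [h]

theorem pow_two_mul {g : Ext} {k : ℕ} (h : g.top ^ k = zCov) : g ^ (2 * k) = 1 := by
  rw [pow_def]
  ext1
  · show ∑ i ∈ Finset.range (2 * k), act (g.top ^ i) g.vec = 0
    rw [two_mul, Finset.sum_range_add]
    simp only [pow_add, h, act_mul, act_z]
    rw [Finset.sum_neg_distrib, add_neg_cancel]
  · show g.top ^ (2 * k) = 1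
    rw [two_mul, pow_add, h, zCov_sq]

theorem pow_three_mul {g : Ext} {n : ℕ}
    (h : ∑ i ∈ Finset.range n, ((g.top : Matˣ) : Mat) ^ i = 0) : g ^ (n * 3) = 1 := by
  have htop : g.top ^ n = 1 := by
    refine Subtype.ext (Units.ext ?_)
    rw [SubmonoidClass.coe_pow, Units.val_pow_eq_pow_val, OneMemClass.coe_one, Units.val_one]
    have h1 := geom_sum_mul ((g.top : Matˣ) : Mat) n
    rw [h, zero_mul] at h1
    exact sub_eq_zero.1 h1.symm
  have hfst : (∑ i ∈ Finset.range n, act (g.top ^ i) g.vec).1 = 0 := by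
    rw [Prod.fst_sum]
    show ∑ i ∈ Finset.range n, (((g.top ^ i : Cov) : Matˣ) : Mat) *ᵥ g.vec.1 = 0
    simp only [SubmonoidClass.coe_pow, Units.val_pow_eq_pow_val]
    rw [← Matrix.sum_mulVec, h, Matrix.zero_mulVec]
  rw [pow_mul, pow_def g n, pow_def]
  ext1
  · simp only [htop, one_pow, act_one, Finset.sum_const, Finset.card_range, one_vec]
    refine Prod.ext ?_ (Subtype.ext (funext fun x => ?_))
    · rw [Prod.smul_fst, hfst, smul_zero]; rfl
    · show (3 : ℕ) • _ = (0 : ZMod 3)
      generalize ((∑ i ∈ Finset.range n, act (g.top ^ i) g.vec).2 : Cov → ZMod 3) x = b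
      revert b; decide
  · simp [htop]

end Ext

open Ext

theorem orderOf_mem (g : Ext) :
    orderOf g ∈ ({1, 2, 3, 4, 5, 6, 7, 8, 9, 10, 12, 15, 21} : Finset ℕ) := by
  have key : ∀ m ∈ ({6, 8, 10, 12, 9, 15, 21} : Finset ℕ), g ^ m = 1 →
      orderOf g ∈ ({1, 2, 3, 4, 5, 6, 7, 8, 9, 10, 12, 15, 21} : Finset ℕ) := by
    intro m hm hg
    have hd := orderOf_dvd_of_pow_eq_one hg
    have hmem : orderOf g ∈ Nat.divisors m := Nat.mem_divisors.2 ⟨hd, by
      rintro rfl; simp at hm⟩
    revert hmem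
    generalize orderOf g = o
    revert o
    have : ∀ m ∈ ({6, 8, 10, 12, 9, 15, 21} : Finset ℕ),
        Nat.divisors m ⊆ ({1, 2, 3, 4, 5, 6, 7, 8, 9, 10, 12, 15, 21} : Finset ℕ) := by decide
    exact fun o ho => this m hm ho
  rcases cov_cases g.top with h | ⟨n, hn, h⟩ | ⟨k, hk, h⟩
  · exact key 21 (by simp) (pow_21 h)
  · refine key (n * 3) ?_ (pow_three_mul h)
    rcases hn with rfl | rfl <;> simp
  · refine key (2 * k) ?_ (pow_two_mul (eq_zCov ?_))
    · fin_cases hk <;> simp
    · rw [SubmonoidClass.coe_pow, Units.val_pow_eq_pow_val, h]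

end Cfsg.Agent.SpecTen
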