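/-
The element orders of the extension.
-/
import Cfsg.Agent.Lib.SpecTen.Group
import Cfsg.Agent.Lib.Spectrum.Basic

set_option autoImplicit false

namespace Cfsg.Agent.SpecTen

open Matrix Ext

/-- The inclusion of the top group. -/
def inTop : Cov →* Ext where
  toFun c := ⟨0, c⟩
  map_one' := rfl
  map_mul' c d := Ext.ext (by simp) rfl

theorem inTop_injective : Function.Injective inTop := fun c d h => congrArg Ext.top h

/-- Evaluation of powers of an element given by an array. -/
def arrPow (x : Arr) : ℕ → Arr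
  | 0 => arrOne
  | k + 1 => arrMul (arrPow x k) x

theorem toMat_pow (x : Arr) : ∀ k, toMat (arrPow x k) = toMat x ^ k
  | 0 => toMat_one
  | k + 1 => by rw [arrPow, toMat_mul, toMat_pow x k, pow_succ]

theorem pow_eq_iff {c : Cov} {x : Arr} (hc : ((c : Matˣ) : Mat) = toMat x) (k : ℕ) :
    c ^ k = 1 ↔ toMat (arrPow x k) = 1 := by
  rw [toMat_pow, ← hc]
  constructor
  · intro h
    rw [← Units.val_pow_eq_pow_val, ← SubmonoidClass.coe_pow, h]
    rfl
  · intro h
    refine Subtype.ext (Units.ext ?_)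
    rw [SubmonoidClass.coe_pow, Units.val_pow_eq_pow_val, h]
    rfl

/-- An element of order 8. -/
def cA : Cov := ⟨uA, uA_mem⟩
/-- An element of order 10. -/
def cB : Cov := ⟨uB, uB_mem⟩
/-- An element of order 12. -/
def cD : Cov := cA * cB

theorem cA_val : ((cA : Matˣ) : Mat) = toMat arrA := rfl
theorem cB_val : ((cB : Matˣ) : Mat) = toMat arrB := rfl
theorem cD_val : ((cD : Matˣ) : Mat) = toMat (arrMul arrA arrB) := by rw [toMat_mul]; rfl

theorem order_cA : orderOf cA = 8 := by
  refine (orderOf_eq_iff (by norm_num)).2 ⟨(pow_eq_iff cA_val 8).2 (by decide +kernel), fun m hm hm0 h => ?_⟩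
  have h' := (pow_eq_iff cA_val m).1 h
  revert h'
  interval_cases m <;> decide +kernel

theorem order_cB : orderOf cB = 10 := by
  refine (orderOf_eq_iff (by norm_num)).2 ⟨(pow_eq_iff cB_val 10).2 (by decide +kernel), fun m hm hm0 h => ?_⟩
  have h' := (pow_eq_iff cB_val m).1 h
  revert h'
  interval_cases m <;> decide +kernel

theorem order_cD : orderOf cD = 12 := by
  refine (orderOf_eq_iff (by norm_num)).2 ⟨(pow_eq_iff cD_val 12).2 (by decide +kernel), fun m hm hm0 h => ?_⟩
  have h' := (pow_eq_iff cD_val m).1 h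
  revert h'
  interval_cases m <;> decide +kernel

open Classical in
/-- The function supported on the centre. -/
noncomputable def delta : oddFun :=
  ⟨fun x => if x = 1 then 1 else if x = zCov then -1 else 0, fun x => by
    by_cases h1 : x = 1
    · subst h1
      simp [zCov_ne]
    · by_cases h2 : x = zCov
      · subst h2
        simp [zCov_sq, zCov_ne]
      · have h3 : zCov * x ≠ 1 := fun h => h2 (by rw [← inv_eq_of_mul_eq_one_right h]; exact inv_eq_of_mul_eq_one_right zCov_sq)
        have h4 : zCov * x ≠ zCov := fun h => h1 (mul_eq_left.1 h)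
        simp [h1, h2, h3, h4]⟩

theorem delta_one : (delta : Cov → ZMod 3) 1 = 1 := by simp [delta]

theorem delta_of_ne {x : Cov} (h1 : x ≠ 1) (h2 : x ≠ zCov) : (delta : Cov → ZMod 3) x = 0 :=
  by simp [delta, h1, h2]

/-- An element of the top group of odd prime order, paired with `delta`, has three times the order. -/
theorem order_delta {c : Cov} {n : ℕ} (hn : n = 3 ∨ n = 5) (hc : orderOf c = n)
    (hs : ∑ i ∈ Finset.range n, ((c : Matˣ) : Mat) ^ i = 0) :
    orderOf (⟨(0, delta), c⟩ : Ext) = 3 * n := by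
  set g : Ext := ⟨(0, delta), c⟩ with hg
  have h1 : g ^ (n * 3) = 1 := pow_three_mul hs
  have h2 : g ^ n ≠ 1 := by
    intro h
    rw [pow_def] at h
    have h3 : (∑ i ∈ Finset.range n, act (c ^ i) ((0, delta) : Mod10)) = 0 := congrArg Ext.vec h
    have h4 := congrArg (fun a : Mod10 => (a.2 : Cov → ZMod 3) 1) h3
    simp only [Prod.snd_sum, AddSubgroup.val_finsetSum, Finset.sum_apply] at h4
    rw [Finset.sum_eq_single 0 (fun i hi hi0 => ?_) (fun h0 => absurd (Finset.mem_range.2 (by omega)) h0)] at h4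
    · have h5 : (delta : Cov → ZMod 3) ((c ^ 0)⁻¹ * 1) = 0 := h4
      rw [pow_zero, inv_one, one_mul, delta_one] at h5
      exact one_ne_zero h5
    · have hin := Finset.mem_range.1 hi
      have hci : c ^ i ≠ 1 := pow_ne_one_of_lt_orderOf hi0 (hc.symm ▸ hin)
      show (delta : Cov → ZMod 3) ((c ^ i)⁻¹ * 1) = 0
      refine delta_of_ne (by simpa using hci) fun he => ?_
      rw [mul_one, inv_eq_iff_eq_inv, inv_eq_of_mul_eq_one_right zCov_sq] at he
      have h6 : (c ^ i) ^ 2 = 1 := by rw [he, sq, zCov_sq]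
      rw [← pow_mul, ← orderOf_dvd_iff_pow_eq_one, hc] at h6
      rcases hn with rfl | rfl <;> interval_cases i <;> omega
  have hd := orderOf_dvd_of_pow_eq_one h1
  have htop : n ∣ orderOf g := by
    rw [← hc, orderOf_dvd_iff_pow_eq_one]
    have := congrArg Ext.top (pow_orderOf_eq_one g)
    rwa [pow_def] at this
  obtain ⟨k, hk⟩ := htop
  have hk3 : k ∣ 3 := by
    rw [hk] at hd
    exact Nat.dvd_of_mul_dvd_mul_left (by omega) hd
  rcases (Nat.dvd_prime Nat.prime_three).1 hk3 with rfl | rfl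
  · rw [mul_one] at hk
    exact absurd (hk ▸ pow_orderOf_eq_one g) h2
  · omega

theorem orderOf_pow_self {c : Ext} {a b : ℕ} (h : orderOf c = a * b) (ha : 0 < a) :
    orderOf (c ^ a) = b := by
  rw [orderOf_pow' c (by omega), h, Nat.gcd_eq_right (dvd_mul_right a b), Nat.mul_div_cancel_left b ha]

/-- The spectrum. -/
theorem range_orderOf_ext :
    Set.range (orderOf : Ext → ℕ) = {1, 2, 3, 4, 5, 6, 7, 8, 9, 10, 12, 15, 21} := by
  apply Set.Subset.antisymm
  · rintro _ ⟨g, rfl⟩
    simpa using orderOf_mem g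
  have e8 : orderOf (inTop cA) = 4 * 2 := by rw [orderOf_injective _ inTop_injective, order_cA]
  have e10 : orderOf (inTop cB) = 2 * 5 := by rw [orderOf_injective _ inTop_injective, order_cB]
  have e12 : orderOf (inTop cD) = 2 * 6 := by rw [orderOf_injective _ inTop_injective, order_cD]
  have sum_zero : ∀ (c : Cov) (x : Arr) (n : ℕ), ((c : Matˣ) : Mat) = toMat x →
      ∑ i ∈ Finset.range n, toMat (arrPow x i) = 0 → ∑ i ∈ Finset.range n, ((c : Matˣ) : Mat) ^ i = 0 := by
    intro c x n hc hs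
    simpa [toMat_pow, hc] using hs
  have e9 : orderOf (⟨(0, delta), cD ^ 4⟩ : Ext) = 9 :=
    order_delta (Or.inl rfl) (by rw [orderOf_pow' _ (by norm_num), order_cD]; norm_num)
      (sum_zero _ (arrPow (arrMul arrA arrB) 4) 3
        (by rw [toMat_pow, ← cD_val, SubmonoidClass.coe_pow, Units.val_pow_eq_pow_val]) (by decide +kernel))
  have e15 : orderOf (⟨(0, delta), cB ^ 2⟩ : Ext) = 15 :=
    order_delta (Or.inr rfl) (by rw [orderOf_pow' _ (by norm_num), order_cB]; norm_num)
      (sum_zero _ (arrPow arrB 2) 5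
        (by rw [toMat_pow, ← cB_val, SubmonoidClass.coe_pow, Units.val_pow_eq_pow_val]) (by decide +kernel))
  have e21 : orderOf (⟨(fun _ => 1, delta), 1⟩ : Ext) = 21 := by
    have hne : ∀ k, 0 < k → k < 21 → k = 3 ∨ k = 7 ∨ k = 1 → (⟨(fun _ => 1, delta), 1⟩ : Ext) ^ k ≠ 1 := by
      intro k _ _ hk h
      rw [pow_def] at h
      have h3 : (∑ i ∈ Finset.range k, act ((1 : Cov) ^ i) ((fun _ => 1, delta) : Mod10)) = 0 :=
        congrArg Ext.vec h
      simp only [one_pow, act_one, Finset.sum_const, Finset.card_range] at h3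
      have h4 : (k : ℕ) • (1 : ZMod 7) = 0 := congrArg (fun a : Mod10 => a.1 0) h3
      have h5 : (k : ℕ) • (delta : Cov → ZMod 3) 1 = 0 := congrArg (fun a : Mod10 => (a.2 : Cov → ZMod 3) 1) h3
      rw [delta_one] at h5
      rcases hk with rfl | rfl | rfl
      · revert h4; decide
      · revert h5; decide
      · revert h4; decide
    have hd := orderOf_dvd_of_pow_eq_one (pow_21 (g := (⟨(fun _ => 1, delta), 1⟩ : Ext)) rfl)
    have hm : orderOf (⟨(fun _ => 1, delta), 1⟩ : Ext) ∈ Nat.divisors 21 := Nat.mem_divisors.2 ⟨hd, by norm_num⟩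
    rw [show Nat.divisors 21 = {1, 3, 7, 21} by decide] at hm
    simp only [Finset.mem_insert, Finset.mem_singleton] at hm
    have key := pow_orderOf_eq_one (⟨(fun _ => 1, delta), 1⟩ : Ext)
    revert key hm
    generalize orderOf (⟨(fun _ => 1, delta), 1⟩ : Ext) = o
    intro hm key
    rcases hm with rfl | rfl | rfl | rfl
    · exact absurd key (hne 1 (by norm_num) (by norm_num) (by simp))
    · exact absurd key (hne 3 (by norm_num) (by norm_num) (by simp))
    · exact absurd key (hne 7 (by norm_num) (by norm_num) (by simp))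
    · rfl
  rintro n hn
  simp only [Set.mem_insert_iff, Set.mem_singleton_iff] at hn
  rcases hn with rfl | rfl | rfl | rfl | rfl | rfl | rfl | rfl | rfl | rfl | rfl | rfl | rfl
  · exact ⟨1, orderOf_one⟩
  · exact ⟨_, orderOf_pow_self e8 (by norm_num)⟩
  · exact ⟨_, orderOf_pow_self (b := 3) (a := 4) e12 (by norm_num)⟩
  · exact ⟨_, orderOf_pow_self (b := 4) (a := 2) e8 (by norm_num)⟩
  · exact ⟨_, orderOf_pow_self (b := 5) (a := 2) e10 (by norm_num)⟩
  · exact ⟨_, orderOf_pow_self (b := 6) (a := 2) e12 (by norm_num)⟩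
  · exact ⟨_, orderOf_pow_self (b := 7) (a := 3) e21 (by norm_num)⟩
  · exact ⟨_, e8⟩
  · exact ⟨_, e9⟩
  · exact ⟨_, e10⟩
  · exact ⟨_, e12⟩
  · exact ⟨_, e15⟩
  · exact ⟨_, e21⟩

/-- The vectors over `ZMod 7`. -/
def sevenPart : Subgroup Ext where
  carrier := {g | g.top = 1 ∧ g.vec.2 = 0}
  one_mem' := ⟨rfl, rfl⟩
  mul_mem' := fun {g h} hg hh => ⟨by simp [hg.1, hh.1], by simp [hg.1, hg.2, hh.2, act_one]⟩
  inv_mem' := fun {g} hg => ⟨by simp [hg.1], by simp [hg.1, hg.2, act_one]⟩

instance : sevenPart.Normal := ⟨fun v hv g => by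
  refine ⟨by simp [hv.1], ?_⟩
  simp only [mul_vec, mul_top, inv_vec, hv.1, mul_one, map_neg, ← act_mul, mul_inv_cancel, act_one]
  refine Subtype.ext (funext fun x => ?_)
  show (g.vec.2 : Cov → ZMod 3) x + (v.vec.2 : Cov → ZMod 3) (g.top⁻¹ * x) + -(g.vec.2 : Cov → ZMod 3) x = 0
  rw [hv.2]
  simp⟩

theorem sevenPart_ne : sevenPart ≠ ⊥ := fun h => by
  have h1 : (⟨((fun _ => 1, 0) : Mod10), 1⟩ : Ext) ∈ sevenPart := ⟨rfl, rfl⟩
  rw [h, Subgroup.mem_bot] at h1
  have h2 : (1 : ZMod 7) = 0 := congrArg (fun g : Ext => g.vec.1 0) h1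
  revert h2; decide

theorem sevenPart_exp : ∀ v ∈ sevenPart, v ^ 7 = 1 := by
  intro v hv
  rw [pow_def]
  ext1
  · simp only [hv.1, one_pow, act_one, Finset.sum_const, Finset.card_range, one_vec]
    refine Prod.ext (funext fun i => ?_) ?_
    · show (7 : ℕ) • v.vec.1 i = 0
      generalize v.vec.1 i = b; revert b; decide
    · rw [Prod.smul_snd, hv.2, smul_zero]; rfl
  · simp [hv.1]

end Cfsg.Agent.SpecTen
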